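import Cfsg.Agent.OddHalf.D4.UFiveTwo.Aut
import Cfsg.Agent.UFiveTwo.POne

/-!
# ODD half, D4, `K ≅ U₅(2)`: the fact sheet
-/

set_option autoImplicit false

namespace Cfsg.Agent.OddHalf.D4.UFiveTwo

open Cfsg.Agent.OddHalf.D4.Spor

universe u

/-- **The fact sheet of `U₅(2)`** -/
theorem sheet_psu {K : Type u} [Group K] [Finite K] {L : Type} [Field L] [Fintype L] (hL : Fintype.card L = 4)
    (e : K ≃* Cfsg.PSU 5 L 2) : Sheet K :=
  sheet Cfsg.Agent.UFiveTwo.p1 L hL e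

end Cfsg.Agent.OddHalf.D4.UFiveTwo
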