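import Cfsg.Agent.OddHalf.D4.UFiveTwo.Bal

/-!
# ODD half, D4, `K ≅ U₅(2)`: the automorphism group and the fact sheet

`P1` (helper770) is applied twice: to `⊤ ≤ K` and to `Inn(K) ≤ Aut(K)`.
-/

set_option autoImplicit false
set_option linter.unusedSectionVars false

namespace Cfsg.Agent.OddHalf.D4.UFiveTwo

open Subgroup Cfsg.Agent.UFiveTwo Cfsg.Agent.StdEven.Syl Cfsg.Agent.OddHalf.D4.Spor

universe u

variable {K : Type u} [Group K]

/-- `Inn(K)` -/
abbrev In (K : Type u) [Group K] : Subgroup (MulAut K) := (MulAut.conj : K →* MulAut K).range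

theorem in_normal : (In K).Normal := by
  constructor
  rintro _ ⟨g, rfl⟩ β
  refine ⟨β g, ?_⟩
  ext y
  simp [MulAut.conj_apply]

theorem mem_norm (β : MulAut K) : β ∈ normalizer ((In K : Subgroup (MulAut K)) : Set (MulAut K)) := by
  have := in_normal (K := K)
  rw [normalizer_eq_top]
  trivial

theorem conj_conj (β : MulAut K) (k : K) : β * MulAut.conj k * β⁻¹ = MulAut.conj (β k) := by
  ext y
  simp [MulAut.conj_apply]

theorem conj_inj (hZ : center K = ⊥) {a b : K} (h : MulAut.conj a = MulAut.conj b) : a = b := by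
  have h1 : a⁻¹ * b ∈ center K := by
    rw [mem_center_iff]
    intro g
    have h2 := congrArg (fun f : MulAut K => f g) h
    simp only [MulAut.conj_apply] at h2
    have h3 : g = a⁻¹ * (b * g * b⁻¹) * a := by rw [← h2]; group
    calc g * (a⁻¹ * b) = a⁻¹ * (b * g * b⁻¹) * a * (a⁻¹ * b) := by rw [← h3]
      _ = a⁻¹ * b * g := by group
  rw [hZ, mem_bot, inv_mul_eq_one] at h1
  exact h1

theorem centralizer_in (hZ : center K = ⊥) {β : MulAut K}
    (h : β ∈ centralizer ((In K : Subgroup (MulAut K)) : Set (MulAut K))) : β = 1 := by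
  ext k
  apply conj_inj hZ
  rw [← conj_conj]
  have h1 := mem_centralizer_iff.mp h (MulAut.conj k) ⟨k, rfl⟩
  rw [← h1, mul_inv_cancel_right]
  rfl

section Auts

variable (hZ : center K = ⊥) {F : Flag (In K)} (FA : FlagAut (In K) F)

include hZ

theorem inner_iff {β : MulAut K} : Cfsg.Agent.UFiveTwo.Inner (In K) β ↔ β ∈ In K := by
  constructor
  · rintro ⟨a, ha, h⟩
    have h1 := centralizer_in hZ h
    rw [inv_mul_eq_one] at h1
    rwa [← h1]
  · intro h
    exact ⟨β, h, by rw [inv_mul_cancel]; exact one_mem _⟩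

include FA

/-- the product of two outer automorphisms is inner -/
theorem mul_mem_of {α β : MulAut K} (ha : α ∉ In K) (hb : β ∉ In K) : α * β ∈ In K := by
  rw [← inner_iff hZ]
  exact FA.ind α (mem_norm α) β (mem_norm β) (by rwa [inner_iff hZ]) (by rwa [inner_iff hZ])

theorem index_or : (In K).index = 1 ∨ (In K).index = 2 := by
  by_cases h : ∀ α : MulAut K, α ∈ In K
  · left
    rw [index_eq_one, eq_top_iff]
    intro α _
    exact h α
  · right
    push Not at h
    obtain ⟨α, hα⟩ := h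
    rw [Subgroup.index_eq_two_iff]
    refine ⟨α, fun b => ?_⟩
    by_cases hb : b ∈ In K
    · right
      exact ⟨hb, fun h1 => hα (by have := mul_mem (inv_mem hb) h1; rwa [inv_mul_cancel_left] at this)⟩
    · left
      exact ⟨mul_mem_of hZ FA hb hα, hb⟩

theorem schreier (P : Subgroup (MulAut K)) (hP : ⁅P, P⁆ = P) : P ≤ In K := by
  rcases index_or hZ FA with h | h
  · rw [index_eq_one] at h
    rw [show (In K) = ⊤ from h]
    exact le_top
  · rw [← hP, commutator_le]
    intro a _ b _
    rw [commutatorElement_def, mul_mem_iff_of_index_two h, mul_mem_iff_of_index_two h, mul_mem_iff_of_index_two h,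
      inv_mem_iff, inv_mem_iff]
    tauto

/-- an automorphism centralising a Sylow 2-subgroup is inner -/
theorem sylAut [Finite K] (S : Sylow 2 K) (α : MulAut K) (hα : ∀ x ∈ S, α x = x) : Inn α := by
  -- the preimage of the Sylow subgroup `T` of `Inn(K)`
  have hinj : Function.Injective (MulAut.conj : K →* MulAut K) := fun a b h => conj_inj hZ h
  have h2 : IsPGroup 2 ↥((F.U ⊔ F.Q).comap (MulAut.conj : K →* MulAut K)) :=
    FA.syl.two.comap_of_injective _ hinj
  obtain ⟨P, hP⟩ := h2.exists_le_sylow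
  obtain ⟨g, hg⟩ := MulAction.exists_smul_eq K P S
  have h3 : ∀ k, MulAut.conj k ∈ F.U ⊔ F.Q → g * k * g⁻¹ ∈ S := by
    intro k hk
    have h4 : k ∈ (P : Subgroup K) := hP hk
    have h5 : (S : Subgroup K) = (P : Subgroup K).map (MulAut.conj g).toMonoidHom := by
      rw [← hg]; rfl
    show g * k * g⁻¹ ∈ (S : Subgroup K)
    rw [h5]
    exact conj_mem_map g h4
  set β := MulAut.conj g⁻¹ * α * MulAut.conj g with hβ
  have h6 : ∀ i, β * F.r i = F.r i * β := by
    intro i
    obtain ⟨k, hk⟩ := F.r_mem i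
    have h7 : MulAut.conj k ∈ F.U ⊔ F.Q := by rw [hk]; exact (le_sup_left : F.U ≤ F.U ⊔ F.Q) (F.r_U i)
    have h8 := hα _ (h3 k h7)
    have h9 : β k = k := by
      show MulAut.conj g⁻¹ (α (MulAut.conj g k)) = k
      rw [MulAut.conj_apply g k, h8, MulAut.conj_apply]; group
    rw [← hk]
    have := conj_conj β k
    rw [h9] at this
    exact mul_inv_eq_iff_eq_mul.mp this
  obtain ⟨c, hc, u, hu, j, he⟩ := FA.cV β (mem_norm β) h6
  rw [centralizer_in hZ hc, one_mul] at he
  have h10 : β ∈ In K := by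
    rw [he]
    exact mul_mem (F.U_le hu) (pow_mem F.h_mem j)
  have h11 : α = MulAut.conj g * β * MulAut.conj g⁻¹ := by
    rw [hβ, map_inv]; group
  have h12 : α ∈ In K := by
    rw [h11]
    exact mul_mem (mul_mem ⟨g, rfl⟩ h10) ⟨g⁻¹, rfl⟩
  obtain ⟨k, hk⟩ := h12
  exact ⟨k, hk.symm⟩

/-- `out2`: an automorphism `α` acting on `C(w)`, `w` an involution, trivially modulo `w` is inner. -/
theorem inn_of_cent {α : MulAut K} {w : K} (hw : w * w = 1)
    (h : ∀ c : K, c * w = w * c → α c = c ∨ α c = w * c) : Inn α := by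
  obtain ⟨a, ha, hV⟩ := FA.into (MulAut.conj w) ⟨w, rfl⟩ (by rw [← map_mul, hw, map_one])
  obtain ⟨g, rfl⟩ := ha
  set β := MulAut.conj g * α * (MulAut.conj g)⁻¹ with hβ
  have e1 : MulAut.conj g * MulAut.conj w * (MulAut.conj g)⁻¹ = MulAut.conj (g * w * g⁻¹) := by
    rw [map_mul, map_mul, map_inv]
  rw [e1] at hV
  obtain ⟨c, hc, u, hu, he⟩ := FA.cUV β (mem_norm β) (by
    intro u hu
    obtain ⟨k, hk⟩ := F.U_le hu
    -- `u` commutes with `V`
    have h1 : u * MulAut.conj (g * w * g⁻¹) = MulAut.conj (g * w * g⁻¹) * u := by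
      have h2 : closure (Set.range F.r) ≤ centralizer ({u} : Set (MulAut K)) := by
        rw [closure_le]
        rintro _ ⟨i, rfl⟩
        exact mem_centralizer_singleton_iff.mpr (F.U_r u hu i).symm
      exact (mem_centralizer_singleton_iff.mp (h2 hV)).symm
    rw [← hk, ← map_mul, ← map_mul] at h1
    have h2 := conj_inj hZ h1
    have h3 : (g⁻¹ * k * g) * w = w * (g⁻¹ * k * g) := by
      calc (g⁻¹ * k * g) * w = g⁻¹ * (k * (g * w * g⁻¹)) * g := by group
        _ = g⁻¹ * (g * w * g⁻¹ * k) * g := by rw [h2]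
        _ = _ := by group
    have h4 : β * u * β⁻¹ = MulAut.conj (β k) := by rw [← hk, conj_conj]
    have h5 : β k = g * α (g⁻¹ * k * g) * g⁻¹ := by
      show MulAut.conj g (α ((MulAut.conj g)⁻¹ k)) = _
      rw [MulAut.conj_inv_apply, MulAut.conj_apply]
    rcases h _ h3 with h6 | h6
    · refine ⟨1, one_mem _, ?_⟩
      rw [h4, h5, h6, mul_one, ← hk]
      congr 1
      group
    · refine ⟨MulAut.conj (g * w * g⁻¹), hV, ?_⟩
      rw [h4, h5, h6, ← hk, ← map_mul, h2]
      congr 1
      group)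
  rw [centralizer_in hZ hc, one_mul] at he
  have h10 : β ∈ In K := by rw [he]; exact F.U_le hu
  have h11 : α = (MulAut.conj g)⁻¹ * β * MulAut.conj g := by rw [hβ]; group
  have h12 : α ∈ In K := by
    rw [h11]
    exact mul_mem (mul_mem (inv_mem ⟨g, rfl⟩) h10) ⟨g, rfl⟩
  obtain ⟨k, hk⟩ := h12
  exact ⟨k, hk.symm⟩

end Auts

/-- **The fact sheet of `U₅(2)`** (from `P1`, helper770). -/
theorem sheet (hp : P1.{u}) [Finite K] (L : Type) [Field L] [Fintype L] (hL : Fintype.card L = 4)
    (e : K ≃* Cfsg.PSU 5 L 2) : Sheet K := by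
  -- `K`
  obtain ⟨F, FA⟩ := hp K (⊤ : Subgroup K) L hL ⟨(Subgroup.topEquiv (G := K)).trans e⟩
  have hZ : center K = ⊥ := by
    rw [eq_bot_iff]
    intro z hz
    rw [mem_bot]
    refine FA.cent z (mem_top _) ?_
    rw [mem_centralizer_iff]
    intro h _
    exact mem_center_iff.mp hz h
  have hinj : Function.Injective (MulAut.conj : K →* MulAut K) := fun a b h => conj_inj hZ h
  -- `Aut(K)`
  have hfin : Finite (MulAut K) := Finite.of_injective (fun α : MulAut K => (α : K → K)) (fun α β h => by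
    ext y; exact congrFun h y)
  obtain ⟨F', FA'⟩ := hp (MulAut K) (In K) L hL ⟨(MonoidHom.ofInjective hinj).symm.trans e⟩
  exact {
    out := by
      rcases index_or hZ FA' with h | h
      · rw [show (MulAut.conj : K →* MulAut K).range.index = 1 from h]; omega
      · rw [show (MulAut.conj : K →* MulAut K).range.index = 2 from h]; omega
    schreier := schreier hZ FA'
    sylAut := fun S α _ h => sylAut hZ FA' S α h
    z1 := fun S a ha _ ha1 hac b hb _ hb1 hbc => z1 FA S a ha ha1 hac b hb hb1 hbc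
    bal := bal FA
    out2 := fun α h1 _ w hw _ _ _ h2 _ _ _ _ _ => h1 (inn_of_cent hZ FA' hw h2)
    tab := tab_of_not_bad (not_bad FA) }

end Cfsg.Agent.OddHalf.D4.UFiveTwo
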