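import Cfsg.Agent.OddHalf.D4.UFiveTwo.KSide

/-!
# ODD half, D4, `K ≅ U₅(2)`: centre of a Sylow 2-subgroup, balance
-/

set_option autoImplicit false
set_option linter.unusedSectionVars false

namespace Cfsg.Agent.OddHalf.D4.UFiveTwo

open Subgroup Cfsg.Agent.UFiveTwo Cfsg.Agent.StdEven.Syl Cfsg.Agent.OddHalf.D4.Spor
open Cfsg.Agent.OddHalf.D4.ThreeD4Two (eq_one_of_odd eq_bot_of_four cen_of_conj bad_map card_mul_relIndex card_le_of_conj)
open Equiv (Perm swap)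

universe u

variable {K : Type u} [Group K] {F : Flag (⊤ : Subgroup K)} (FA : FlagAut (⊤ : Subgroup K) F)

include FA

/-- every Sylow 2-subgroup is conjugate to `U Q` -/
theorem exists_conj_T [Finite K] (S : Sylow 2 K) : ∃ p : K, ∀ y, y ∈ S ↔ p * y * p⁻¹ ∈ F.U ⊔ F.Q := by
  obtain ⟨P, hP⟩ := FA.syl.exists_sylow
  obtain ⟨g, hg⟩ := MulAction.exists_smul_eq K P S
  refine ⟨g⁻¹, fun y => ?_⟩
  have h1 : (S : Subgroup K) = (P : Subgroup K).map (MulAut.conj g).toMonoidHom := by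
    rw [← hg]; rfl
  show y ∈ (S : Subgroup K) ↔ _
  rw [h1, hP, mem_map_conj, inv_inv]

/-- the centre of a Sylow 2-subgroup contains only one involution -/
theorem z1 [Finite K] (S : Sylow 2 K) (a : K) (ha : a ∈ S) (ha1 : a ≠ 1) (hac : ∀ s ∈ S, s * a = a * s)
    (b : K) (hb : b ∈ S) (hb1 : b ≠ 1) (hbc : ∀ s ∈ S, s * b = b * s) : a = b := by
  obtain ⟨p, hp⟩ := exists_conj_T FA S
  have key : ∀ c ∈ S, c ≠ 1 → (∀ s ∈ S, s * c = c * s) → p * c * p⁻¹ = F.r 0 := by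
    intro c hc hc1 hcc
    have h1 : p * c * p⁻¹ = 1 ∨ p * c * p⁻¹ = F.r 0 := by
      refine cQ' FA fun q hq => ?_
      have h2 : p⁻¹ * q * p ∈ S := by
        rw [hp]
        have : p * (p⁻¹ * q * p) * p⁻¹ = q := by group
        rw [this]
        exact (le_sup_right : F.Q ≤ F.U ⊔ F.Q) hq
      have h3 := hcc _ h2
      calc p * c * p⁻¹ * q = p * (c * (p⁻¹ * q * p)) * p⁻¹ := by group
        _ = p * (p⁻¹ * q * p * c) * p⁻¹ := by rw [h3]
        _ = _ := by group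
    rcases h1 with h1 | h1
    · exfalso
      apply hc1
      have : c = p⁻¹ * (p * c * p⁻¹) * p := by group
      rw [this, h1]; group
    · exact h1
  have h1 := key a ha ha1 hac
  have h2 := key b hb hb1 hbc
  rw [← h2] at h1
  exact mul_left_cancel (mul_right_cancel h1)

omit FA

theorem two_Q (FA : FlagAut (⊤ : Subgroup K) F) : IsPGroup 2 ↥F.Q := FA.syl.two.to_le le_sup_right

include FA

/-- an element of odd order centralising `Q` is trivial -/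
theorem eq_one_of_cent_Q {I : Subgroup K} (hI : Odd (Nat.card ↥I)) {i : K} (hi : i ∈ I)
    (hc : ∀ q ∈ F.Q, i * q = q * i) : i = 1 := by
  rcases cQ' FA hc with h | h
  · exact h
  · exact eq_one_of_odd hI hi (two_Q FA) (by rw [h]; exact F.r_Q)

/-- `O(C(r 0)) = 1` -/
theorem bal0 {I : Subgroup K} (hI : ∀ i ∈ I, i * F.r 0 = F.r 0 * i)
    (hn : ∀ c : K, c * F.r 0 = F.r 0 * c → ∀ i ∈ I, c * i * c⁻¹ ∈ I) (ho : Odd (Nat.card ↥I)) : I = ⊥ := by
  rw [eq_bot_iff]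
  intro i hi
  rw [mem_bot]
  refine eq_one_of_cent_Q FA ho hi fun v hv => ?_
  have h1 : i * v * i⁻¹ * v⁻¹ ∈ F.Q := mul_mem (F.Q_conj i (mem_top _) (hI i hi) v hv) (inv_mem hv)
  have h2 : i * v * i⁻¹ * v⁻¹ ∈ I := by
    have e : i * v * i⁻¹ * v⁻¹ = i * (v * i⁻¹ * v⁻¹) := by group
    rw [e]
    exact mul_mem hi (hn v (F.Q_r v hv) _ (inv_mem hi))
  have h3 := eq_one_of_odd ho h2 (two_Q FA) h1
  rw [mul_inv_eq_one] at h3
  exact mul_inv_eq_iff_eq_mul.mp h3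

/-- no element `≠ 1` of a subgroup `I` of odd order, normalised by and centralising `w ∈ Q`, centralises `r 0`. -/
theorem no_fix0 {w : K} (hw : w ∈ F.Q) {I : Subgroup K} (hI : ∀ i ∈ I, i * w = w * i)
    (hn : ∀ c : K, c * w = w * c → ∀ i ∈ I, c * i * c⁻¹ ∈ I) (ho : Odd (Nat.card ↥I)) {i : K} (hi : i ∈ I)
    (hi0 : i * F.r 0 = F.r 0 * i) : i = 1 := by
  have hD : ∀ v ∈ F.Q, v * w = w * v → i * v = v * i := by
    intro v hv hvw
    have h1 : i * v * i⁻¹ * v⁻¹ ∈ F.Q := mul_mem (F.Q_conj i (mem_top _) hi0 v hv) (inv_mem hv)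
    have h2 : i * v * i⁻¹ * v⁻¹ ∈ I := by
      have e : i * v * i⁻¹ * v⁻¹ = i * (v * i⁻¹ * v⁻¹) := by group
      rw [e]
      exact mul_mem hi (hn v hvw _ (inv_mem hi))
    have h3 := eq_one_of_odd ho h2 (two_Q FA) h1
    rw [mul_inv_eq_one] at h3
    exact mul_inv_eq_iff_eq_mul.mp h3
  have hQw : ∀ v ∈ F.Q, v * w * v⁻¹ = w ∨ v * w * v⁻¹ = F.r 0 * w := by
    intro v hv
    rcases F.Q_comm v hv w hw with h1 | h1
    · left; exact mul_inv_eq_one.mp h1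
    · right; exact mul_inv_eq_iff_eq_mul.mp h1
  refine eq_one_of_cent_Q FA ho hi fun v hv => ?_
  set d := v⁻¹ * (i * v * i⁻¹) with hd
  have hdQ : d ∈ F.Q := mul_mem (inv_mem hv) (F.Q_conj i (mem_top _) hi0 v hv)
  have hdw : d * w = w * d := by
    have hi3 : i⁻¹ * w * i = w := by rw [mul_assoc, ← hI i hi]; group
    have hi34 : i * (F.r 0 * w) * i⁻¹ = F.r 0 * w := by
      calc i * (F.r 0 * w) * i⁻¹ = (i * F.r 0) * w * i⁻¹ := by group
        _ = F.r 0 * (i * w) * i⁻¹ := by rw [hi0]; group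
        _ = _ := by rw [hI i hi]; group
    have e1 : (i * v * i⁻¹) * w * (i * v * i⁻¹)⁻¹ = v * w * v⁻¹ := by
      calc (i * v * i⁻¹) * w * (i * v * i⁻¹)⁻¹ = i * (v * (i⁻¹ * w * i) * v⁻¹) * i⁻¹ := by group
        _ = i * (v * w * v⁻¹) * i⁻¹ := by rw [hi3]
        _ = v * w * v⁻¹ := by
          rcases hQw v hv with h1 | h1
          · rw [h1, hI i hi, mul_inv_cancel_right]
          · rw [h1, hi34]
    have e2 : d * w * d⁻¹ = w := by
      calc d * w * d⁻¹ = v⁻¹ * ((i * v * i⁻¹) * w * (i * v * i⁻¹)⁻¹) * v := by rw [hd]; group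
        _ = w := by rw [e1]; group
    exact mul_inv_eq_iff_eq_mul.mp e2
  have hid : i * d = d * i := hD d hdQ hdw
  have hpow : ∀ n : ℕ, i ^ n * v * (i ^ n)⁻¹ = v * d ^ n := by
    intro n
    induction n with
    | zero => simp
    | succ n ih =>
      have hc : i * d ^ n * i⁻¹ = d ^ n := by
        have : Commute i d := hid
        rw [(this.pow_right n).eq, mul_inv_cancel_right]
      calc i ^ (n + 1) * v * (i ^ (n + 1))⁻¹ = i * (i ^ n * v * (i ^ n)⁻¹) * i⁻¹ := by rw [pow_succ']; group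
        _ = i * (v * d ^ n) * i⁻¹ := by rw [ih]
        _ = (i * v * i⁻¹) * (i * d ^ n * i⁻¹) := by group
        _ = v * d * d ^ n := by rw [hc, hd]; group
        _ = v * d ^ (n + 1) := by rw [pow_succ']; group
  have h0 : Nat.card ↥I ≠ 0 := by
    intro h0
    rw [h0] at ho
    exact absurd ho (by decide)
  have hfin := Nat.finite_of_card_ne_zero h0
  have hin : i ^ Nat.card ↥I = 1 := by
    have := pow_card_eq_one' (x := (⟨i, hi⟩ : ↥I))
    exact congrArg Subtype.val this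
  have h1 := hpow (Nat.card ↥I)
  rw [hin] at h1
  have h2 : d ^ Nat.card ↥I = 1 := by
    have : v = v * d ^ Nat.card ↥I := by
      calc v = 1 * v * (1 : K)⁻¹ := by group
        _ = _ := h1
    exact (mul_eq_left.mp this.symm)
  obtain ⟨m, hm⟩ := two_Q FA ⟨d, hdQ⟩
  have hm' : d ^ 2 ^ m = 1 := congrArg Subtype.val hm
  have h3 : orderOf d = 1 := Nat.eq_one_of_dvd_coprimes
    (Nat.Coprime.pow_left m ((Nat.coprime_two_left).2 ho)) (orderOf_dvd_of_pow_eq_one hm') (orderOf_dvd_of_pow_eq_one h2)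
  have h4 : d = 1 := orderOf_eq_one_iff.1 h3
  rw [hd, inv_mul_eq_one] at h4
  exact (mul_inv_eq_iff_eq_mul.mp h4.symm)

/-- the same for `r k`, `k ≠ 1, 2`, and `w0` -/
theorem no_fix {I : Subgroup K} (hI : ∀ i ∈ I, i * w0 F = w0 F * i)
    (hn : ∀ c : K, c * w0 F = w0 F * c → ∀ i ∈ I, c * i * c⁻¹ ∈ I) (ho : Odd (Nat.card ↥I)) {k : Fin 5}
    (hk : k ≠ 1 ∧ k ≠ 2) {i : K} (hi : i ∈ I) (hik : i * F.r k = F.r k * i) : i = 1 := by
  -- conjugate `r k` to `r 0`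
  obtain ⟨σ, hσ⟩ := exists_trans_one k 0
  set g := F.l σ with hg
  set I' := I.map (MulAut.conj g).toMonoidHom with hI'
  have hcard : Nat.card ↥I' = Nat.card ↥I :=
    (Nat.card_congr (I.equivMapOfInjective (MulAut.conj g).toMonoidHom (MulAut.conj g).injective).toEquiv).symm
  have hwQ : g * w0 F * g⁻¹ ∈ F.Q := by
    have e : g * (F.r 1 * F.r 2) * g⁻¹ = F.r ((σ : Perm (Fin 5)) 1) * F.r ((σ : Perm (Fin 5)) 2) := by
      rw [← F.l_r, ← F.l_r, ← hg]; group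
    show g * (F.r 1 * F.r 2) * g⁻¹ ∈ F.Q
    rw [e]
    refine F.rr_Q _ _ ?_ ?_
    · intro h; exact hk.1 ((σ : Perm (Fin 5)).injective (hσ.trans h.symm))
    · intro h; exact hk.2 ((σ : Perm (Fin 5)).injective (hσ.trans h.symm))
  have h1 : ∀ i ∈ I', i * (g * w0 F * g⁻¹) = g * w0 F * g⁻¹ * i := by
    rintro _ ⟨i, hi, rfl⟩
    show g * i * g⁻¹ * (g * w0 F * g⁻¹) = g * w0 F * g⁻¹ * (g * i * g⁻¹)
    calc g * i * g⁻¹ * (g * w0 F * g⁻¹) = g * (i * w0 F) * g⁻¹ := by group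
      _ = g * (w0 F * i) * g⁻¹ := by rw [hI i hi]
      _ = _ := by group
  have h2 : ∀ c : K, c * (g * w0 F * g⁻¹) = g * w0 F * g⁻¹ * c → ∀ i ∈ I', c * i * c⁻¹ ∈ I' := by
    rintro c hc _ ⟨i, hi, rfl⟩
    have hc' : (g⁻¹ * c * g) * w0 F = w0 F * (g⁻¹ * c * g) := by
      calc (g⁻¹ * c * g) * w0 F = g⁻¹ * (c * (g * w0 F * g⁻¹)) * g := by group
        _ = g⁻¹ * (g * w0 F * g⁻¹ * c) * g := by rw [hc]
        _ = _ := by group
    refine ⟨_, hn _ hc' i hi, ?_⟩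
    show g * (g⁻¹ * c * g * i * (g⁻¹ * c * g)⁻¹) * g⁻¹ = c * (g * i * g⁻¹) * c⁻¹
    group
  have hr0 : F.r 0 = g * F.r k * g⁻¹ := by rw [hg, F.l_r, hσ]
  have h3 := no_fix0 FA hwQ h1 h2 (by rw [hcard]; exact ho) (i := g * i * g⁻¹) ⟨i, hi, rfl⟩ (by
    rw [hr0]
    calc g * i * g⁻¹ * (g * F.r k * g⁻¹) = g * (i * F.r k) * g⁻¹ := by group
      _ = g * (F.r k * i) * g⁻¹ := by rw [hik]
      _ = _ := by group)
  have : i = g⁻¹ * (g * i * g⁻¹) * g := by group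
  rw [this, h3]; group

/-- `O(C(w0)) = 1` -/
theorem balw [Finite K] {I : Subgroup K} (hI : ∀ i ∈ I, i * w0 F = w0 F * i)
    (hn : ∀ c : K, c * w0 F = w0 F * c → ∀ i ∈ I, c * i * c⁻¹ ∈ I) (ho : Odd (Nat.card ↥I)) : I = ⊥ := by
  have hc : ∀ k, F.r k * w0 F = w0 F * F.r k := fun k => F.comm_VV (F.r_V k) w0_V
  refine eq_bot_of_four (a := F.r 0) (b := F.r 3) (F.r_sq 0) (F.r_sq 3) (hn _ (hc 0)) (hn _ (hc 3))
    (fun i hi h => no_fix FA hI hn ho (by decide) hi h) (fun i hi h => no_fix FA hI hn ho (by decide) hi h) ?_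
  intro i hi h
  refine no_fix FA hI hn ho (k := 4) (by decide) hi ?_
  have e : F.r 4 = F.r 0 * F.r 3 * w0 F := by
    have h4 := F.r_prod
    have h5 : F.r 0 * F.r 1 * F.r 2 * F.r 3 = F.r 4 := by
      rw [eq_inv_of_mul_eq_one_left h4, F.V_inv (F.r_V 4)]
    rw [← h5]
    show F.r 0 * F.r 1 * F.r 2 * F.r 3 = F.r 0 * F.r 3 * (F.r 1 * F.r 2)
    calc F.r 0 * F.r 1 * F.r 2 * F.r 3 = F.r 0 * ((F.r 1 * F.r 2) * F.r 3) := by group
      _ = F.r 0 * (F.r 3 * (F.r 1 * F.r 2)) := by rw [F.comm_VV (mul_mem (F.r_V 1) (F.r_V 2)) (F.r_V 3)]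
      _ = _ := by group
  rw [e]
  calc i * (F.r 0 * F.r 3 * w0 F) = (i * (F.r 0 * F.r 3)) * w0 F := by group
    _ = F.r 0 * F.r 3 * (i * w0 F) := by rw [h]; group
    _ = _ := by rw [hI i hi]; group

/-- **balance** -/
theorem bal [Finite K] (a : K) (ha : a * a = 1) (ha1 : a ≠ 1) (I : Subgroup K) (hI : ∀ i ∈ I, i * a = a * i)
    (hn : ∀ c : K, c * a = a * c → ∀ i ∈ I, c * i * c⁻¹ ∈ I) (ho : Odd (Nat.card ↥I)) : I = ⊥ := by
  obtain ⟨g, hg⟩ := exists_std FA ha ha1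
  set I' := I.map (MulAut.conj g).toMonoidHom with hI'
  have hcard : Nat.card ↥I' = Nat.card ↥I :=
    (Nat.card_congr (I.equivMapOfInjective (MulAut.conj g).toMonoidHom (MulAut.conj g).injective).toEquiv).symm
  have h1 : ∀ i ∈ I', i * (g * a * g⁻¹) = g * a * g⁻¹ * i := by
    rintro _ ⟨i, hi, rfl⟩
    show g * i * g⁻¹ * (g * a * g⁻¹) = g * a * g⁻¹ * (g * i * g⁻¹)
    calc g * i * g⁻¹ * (g * a * g⁻¹) = g * (i * a) * g⁻¹ := by group
      _ = g * (a * i) * g⁻¹ := by rw [hI i hi]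
      _ = _ := by group
  have h2 : ∀ c : K, c * (g * a * g⁻¹) = g * a * g⁻¹ * c → ∀ i ∈ I', c * i * c⁻¹ ∈ I' := by
    rintro c hc _ ⟨i, hi, rfl⟩
    have hc' : (g⁻¹ * c * g) * a = a * (g⁻¹ * c * g) := by
      calc (g⁻¹ * c * g) * a = g⁻¹ * (c * (g * a * g⁻¹)) * g := by group
        _ = g⁻¹ * (g * a * g⁻¹ * c) * g := by rw [hc]
        _ = _ := by group
    refine ⟨_, hn _ hc' i hi, ?_⟩
    show g * (g⁻¹ * c * g * i * (g⁻¹ * c * g)⁻¹) * g⁻¹ = c * (g * i * g⁻¹) * c⁻¹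
    group
  have h3 : I' = ⊥ := by
    rcases hg with hg | hg
    · rw [hg] at h1 h2
      exact bal0 FA h1 h2 (by rw [hcard]; exact ho)
    · rw [hg] at h1 h2
      exact balw FA h1 h2 (by rw [hcard]; exact ho)
  rw [hI', Subgroup.map_eq_bot_iff_of_injective _ (MulAut.conj g).injective] at h3
  exact h3

end Cfsg.Agent.OddHalf.D4.UFiveTwo
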