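import Mathlib
import Cfsg.Agent.UFiveTwo.AutF
import Cfsg.Agent.UFiveTwo.VFacts
import Cfsg.Agent.OddHalf.D4.ThreeD4Two.Bal

/-!
# ODD half, D4, `K ≅ U₅(2)`: facts on `K` (involutions, `Bad`, balance)

`F : Flag (⊤ : Subgroup K)`, `FA : FlagAut ⊤ F` (helper414, helper686, helper770).
-/

set_option autoImplicit false
set_option linter.unusedSectionVars false

namespace Cfsg.Agent.OddHalf.D4.UFiveTwo

open Subgroup Cfsg.Agent.UFiveTwo Cfsg.Agent.StdEven.Syl Cfsg.Agent.OddHalf.D4.Spor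
open Cfsg.Agent.OddHalf.D4.ThreeD4Two (eq_one_of_odd eq_bot_of_four cen_of_conj bad_map card_mul_relIndex card_le_of_conj)
open Equiv (Perm swap)

universe u

section Dec

set_option maxRecDepth 100000 in
theorem dec_cases : ∀ s : Fin 5 → ZMod 2, s = 0 ∨ s = 1 ∨ (∃ i, s = Pi.single i 1 ∨ s + 1 = Pi.single i 1) ∨
    ∃ i j : Fin 5, i ≠ j ∧ (s = Pi.single i 1 + Pi.single j 1 ∨ s + 1 = Pi.single i 1 + Pi.single j 1) := by
  decide +kernel

set_option maxRecDepth 100000 in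
theorem dec_disj : ∀ i j : Fin 5, i ≠ j → (i ≠ 1 ∧ i ≠ 2) → (j ≠ 1 ∧ j ≠ 2) → ∃ m : Fin 5,
    (Pi.single i 1 + Pi.single j 1 + (Pi.single 1 1 + Pi.single 2 1) : Fin 5 → ZMod 2) = Pi.single m 1 + 1 := by
  decide +kernel

set_option maxRecDepth 100000 in
theorem dec_one : ∀ j : Fin 5, (j ≠ 1 ∧ j ≠ 2) → ∃ k m a b c d : Fin 5, (a ≠ b ∧ c ≠ d) ∧
    (swap a b * swap c d) 1 = 1 ∧ (swap a b * swap c d) 2 = 2 ∧ (swap a b * swap c d) j = k ∧
    (Pi.single j 1 + Pi.single k 1 + (Pi.single 1 1 + Pi.single 2 1) : Fin 5 → ZMod 2) = Pi.single m 1 + 1 := by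
  decide +kernel

theorem dec_even (σ : Perm (Fin 5)) (h0 : σ 0 = 0) (h3 : σ 3 = 3) (h4 : σ 4 = 4) (hs : Equiv.Perm.sign σ = 1) :
    σ = 1 := by
  have key : ∀ i : Fin 5, (i ≠ 0 ∧ i ≠ 3 ∧ i ≠ 4) → i = 1 ∨ i = 2 := by decide
  have i1 : σ 1 = 1 ∨ σ 1 = 2 := key _ ⟨fun h => absurd (σ.injective (h.trans h0.symm)) (by decide),
    fun h => absurd (σ.injective (h.trans h3.symm)) (by decide), fun h => absurd (σ.injective (h.trans h4.symm)) (by decide)⟩
  have i2 : σ 2 = 1 ∨ σ 2 = 2 := key _ ⟨fun h => absurd (σ.injective (h.trans h0.symm)) (by decide),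
    fun h => absurd (σ.injective (h.trans h3.symm)) (by decide), fun h => absurd (σ.injective (h.trans h4.symm)) (by decide)⟩
  have ne : σ 1 ≠ σ 2 := fun h => absurd (σ.injective h) (by decide)
  rcases i1 with h1 | h1 <;> rcases i2 with h2 | h2
  · exact absurd (h1.trans h2.symm) ne
  · ext i
    fin_cases i <;> simp [h0, h1, h2, h3, h4]
  · exfalso
    have : σ = swap 1 2 := by
      ext i
      fin_cases i
      · simp only [Fin.zero_eta, h0]; decide
      · simp only [Fin.mk_one, h1]; decide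
      · change ((σ 2 : Fin 5) : ℕ) = _
        rw [h2]; decide
      · change ((σ 3 : Fin 5) : ℕ) = _
        rw [h3]; decide
      · change ((σ 4 : Fin 5) : ℕ) = _
        rw [h4]; decide
    rw [this, Equiv.Perm.sign_swap (by decide)] at hs
    exact absurd hs (by decide)
  · exact absurd (h1.trans h2.symm) ne

end Dec

variable {K : Type u} [Group K] {F : Flag (⊤ : Subgroup K)} (FA : FlagAut (⊤ : Subgroup K) F)

theorem mem_norm_top (g : K) : g ∈ normalizer ((⊤ : Subgroup K) : Set K) := by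
  rw [mem_normalizer_iff]
  intro h
  exact ⟨fun _ => mem_top _, fun _ => mem_top _⟩

include FA

theorem cent_one {c : K} (hc : c ∈ centralizer ((⊤ : Subgroup K) : Set K)) : c = 1 := FA.cent c (mem_top _) hc

theorem cV' {g : K} (hg : ∀ i, g * F.r i = F.r i * g) : ∃ u ∈ F.U, ∃ j : ℕ, g = u * F.h ^ j := by
  obtain ⟨c, hc, u, hu, j, e⟩ := FA.cV g (mem_norm_top g) hg
  rw [cent_one FA hc, one_mul] at e
  exact ⟨u, hu, j, e⟩

theorem cQ' {g : K} (hg : ∀ q ∈ F.Q, g * q = q * g) : g = 1 ∨ g = F.r 0 := by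
  obtain ⟨c, hc, e⟩ := FA.cQ g (mem_norm_top g) hg
  rw [cent_one FA hc, one_mul] at e
  exact e

omit FA

theorem T_r {t : K} (ht : t ∈ F.U ⊔ F.Q) :
    ∃ σ : alternatingGroup (Fin 5), ∀ i, t * F.r i * t⁻¹ = F.r ((σ : Perm (Fin 5)) i) := by
  let P : Subgroup K :=
    { carrier := {t | ∃ σ : alternatingGroup (Fin 5), ∀ i, t * F.r i * t⁻¹ = F.r ((σ : Perm (Fin 5)) i)}
      mul_mem' := by
        rintro a b ⟨σ, ha⟩ ⟨τ, hb⟩
        refine ⟨σ * τ, fun i => ?_⟩
        calc a * b * F.r i * (a * b)⁻¹ = a * (b * F.r i * b⁻¹) * a⁻¹ := by group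
          _ = _ := by rw [hb, ha]; rfl
      one_mem' := ⟨1, fun i => by simp⟩
      inv_mem' := by
        rintro a ⟨σ, ha⟩
        refine ⟨σ⁻¹, fun i => ?_⟩
        have h1 := ha (((σ⁻¹ : alternatingGroup (Fin 5)) : Perm (Fin 5)) i)
        have h2 : (σ : Perm (Fin 5)) (((σ⁻¹ : alternatingGroup (Fin 5)) : Perm (Fin 5)) i) = i := by
          rw [Subgroup.coe_inv]
          exact (σ : Perm (Fin 5)).apply_symm_apply i
        rw [h2] at h1
        rw [← h1]; group }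
  have hU : F.U ≤ P := fun u hu => ⟨1, fun i => by rw [F.U_r u hu i, mul_inv_cancel_right]; rfl⟩
  have hQ : F.Q ≤ P := by
    intro q hq
    obtain ⟨u, hu, σ, -, rfl⟩ := F.Q_gen q hq
    refine ⟨σ, fun i => ?_⟩
    calc u * F.l σ * F.r i * (u * F.l σ)⁻¹ = u * (F.l σ * F.r i * (F.l σ)⁻¹) * u⁻¹ := by group
      _ = _ := by rw [F.l_r, F.U_r u hu.1, mul_inv_cancel_right]
  exact (sup_le hU hQ) ht

theorem T_r0 {t : K} (ht : t ∈ F.U ⊔ F.Q) : t * F.r 0 = F.r 0 * t := by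
  have h : F.U ⊔ F.Q ≤ centralizer ({F.r 0} : Set K) := sup_le
    (fun u hu => mem_centralizer_singleton_iff.mpr (F.U_r u hu 0))
    (fun q hq => mem_centralizer_singleton_iff.mpr (F.Q_r q hq))
  exact mem_centralizer_singleton_iff.mp (h ht)

/-- the involution which is not 2-central -/
def w0 (F : Flag (⊤ : Subgroup K)) : K := F.r 1 * F.r 2

theorem w0_Q : w0 F ∈ F.Q := F.rr_Q 1 2 (by decide) (by decide)

theorem w0_V : w0 F ∈ F.V := mul_mem (F.r_V 1) (F.r_V 2)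

theorem w0_sq : w0 F * w0 F = 1 := F.V_sq w0_V

theorem w0_ne : w0 F ≠ 1 := F.rr_ne_one (by decide)

theorem T_w0 {t : K} (ht : t ∈ F.U ⊔ F.Q) : t * w0 F * t⁻¹ = w0 F ∨ t * w0 F * t⁻¹ = w0 F * F.r 0 := by
  let P : Subgroup K :=
    { carrier := {t | t * F.r 0 = F.r 0 * t ∧ (t * w0 F * t⁻¹ = w0 F ∨ t * w0 F * t⁻¹ = w0 F * F.r 0)}
      mul_mem' := by
        rintro a b ⟨ha0, ha⟩ ⟨hb0, hb⟩
        have ha0' : a * F.r 0 * a⁻¹ = F.r 0 := by rw [ha0, mul_inv_cancel_right]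
        refine ⟨?_, ?_⟩
        · calc a * b * F.r 0 = a * (b * F.r 0) := by group
            _ = (a * F.r 0) * b := by rw [hb0]; group
            _ = _ := by rw [ha0]; group
        · have e : a * b * w0 F * (a * b)⁻¹ = a * (b * w0 F * b⁻¹) * a⁻¹ := by group
          have e2 : a * (w0 F * F.r 0) * a⁻¹ = (a * w0 F * a⁻¹) * (a * F.r 0 * a⁻¹) := by group
          rw [e]
          rcases hb with hb | hb
          · rw [hb]; exact ha
          · rw [hb, e2, ha0']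
            rcases ha with ha | ha
            · right; rw [ha]
            · left; rw [ha, mul_assoc, F.r_sq, mul_one]
      one_mem' := ⟨by simp, Or.inl (by simp)⟩
      inv_mem' := by
        rintro a ⟨ha0, ha⟩
        have ha0' : a⁻¹ * F.r 0 = F.r 0 * a⁻¹ := by
          rw [inv_mul_eq_iff_eq_mul, ← mul_assoc, ha0, mul_inv_cancel_right]
        refine ⟨ha0', ?_⟩
        rw [inv_inv]
        rcases ha with ha | ha
        · left
          rw [mul_inv_eq_iff_eq_mul] at ha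
          calc a⁻¹ * w0 F * a = a⁻¹ * (w0 F * a) := by group
            _ = w0 F := by rw [← ha]; group
        · right
          have h1 : w0 F = a⁻¹ * (w0 F * F.r 0) * a := by rw [← ha]; group
          have h2 : a⁻¹ * (w0 F * F.r 0) * a = (a⁻¹ * w0 F * a) * F.r 0 := by
            have : a⁻¹ * F.r 0 * a = F.r 0 := by rw [ha0', inv_mul_cancel_right]
            calc a⁻¹ * (w0 F * F.r 0) * a = (a⁻¹ * w0 F * a) * (a⁻¹ * F.r 0 * a) := by group
              _ = _ := by rw [this]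
          rw [h2] at h1
          have h3 : w0 F * F.r 0 = a⁻¹ * w0 F * a := by
            calc w0 F * F.r 0 = (a⁻¹ * w0 F * a) * F.r 0 * F.r 0 := by rw [← h1]
              _ = _ := by rw [mul_assoc, F.r_sq, mul_one]
          exact h3.symm }
  have hU : F.U ≤ P := fun u hu => ⟨F.U_r u hu 0, Or.inl (by rw [F.U_V hu w0_V, mul_inv_cancel_right])⟩
  have hQ : F.Q ≤ P := by
    intro q hq
    refine ⟨F.Q_r q hq, ?_⟩
    rcases F.Q_comm q hq (w0 F) w0_Q with h1 | h1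
    · left; exact mul_inv_eq_one.mp h1
    · right
      rw [mul_inv_eq_iff_eq_mul] at h1
      rw [h1, F.comm_VV (F.r_V 0) w0_V]
  exact ((sup_le hU hQ) ht).2

include FA in
theorem cen_r0 [Finite K] : Cen (F.r 0) := by
  obtain ⟨P, hP⟩ := FA.syl.exists_sylow
  refine ⟨P, fun s hs => T_r0 (F := F) ?_⟩
  rw [← hP]; exact hs

include FA in
theorem cen_r [Finite K] (i : Fin 5) : Cen (F.r i) := by
  obtain ⟨σ, hσ⟩ := exists_trans_one i 0
  apply cen_of_conj (F.l σ)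
  rw [F.l_r, hσ]
  exact cen_r0 FA

/-- the elements of `V` -/
theorem V_cases {x : K} (hx : x ∈ F.V) : x = 1 ∨ (∃ i, x = F.r i) ∨ ∃ i j, i ≠ j ∧ x = F.r i * F.r j := by
  obtain ⟨s, rfl⟩ := F.exists_v hx
  have h1 : F.v (s + 1) = F.v s := by rw [F.v_add, F.v_one, mul_one]
  rcases dec_cases s with h | h | ⟨i, h | h⟩ | ⟨i, j, hij, h | h⟩
  · left; rw [h, F.v_zero]
  · left; rw [h, F.v_one]
  · right; left; exact ⟨i, by rw [h, F.v_single]⟩
  · right; left; exact ⟨i, by rw [← h1, h, F.v_single]⟩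
  · right; right; exact ⟨i, j, hij, by rw [h, F.v_add, F.v_single, F.v_single]⟩
  · right; right; exact ⟨i, j, hij, by rw [← h1, h, F.v_add, F.v_single, F.v_single]⟩

theorem conj_rr {i j : Fin 5} (hij : i ≠ j) : ∃ σ, F.l σ * (F.r i * F.r j) * (F.l σ)⁻¹ = w0 F := by
  obtain ⟨σ, h1, h2⟩ := exists_trans hij (by decide : (1 : Fin 5) ≠ 2)
  refine ⟨σ, ?_⟩
  calc F.l σ * (F.r i * F.r j) * (F.l σ)⁻¹ = (F.l σ * F.r i * (F.l σ)⁻¹) * (F.l σ * F.r j * (F.l σ)⁻¹) := by group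
    _ = _ := by rw [F.l_r, F.l_r, h1, h2]; rfl

include FA in
/-- every involution is conjugate to `r 0` or `w0` -/
theorem exists_std {x : K} (hx : x * x = 1) (hx1 : x ≠ 1) : ∃ g : K, g * x * g⁻¹ = F.r 0 ∨ g * x * g⁻¹ = w0 F := by
  obtain ⟨a, -, ha⟩ := FA.into x (mem_top _) hx
  rcases V_cases (F := F) ha with h | ⟨i, h⟩ | ⟨i, j, hij, h⟩
  · exfalso
    apply hx1
    have : x = a⁻¹ * (a * x * a⁻¹) * a := by group
    rw [this, h]; group
  · obtain ⟨σ, hσ⟩ := exists_trans_one i 0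
    refine ⟨F.l σ * a, Or.inl ?_⟩
    calc F.l σ * a * x * (F.l σ * a)⁻¹ = F.l σ * (a * x * a⁻¹) * (F.l σ)⁻¹ := by group
      _ = _ := by rw [h, F.l_r, hσ]
  · obtain ⟨σ, hσ⟩ := conj_rr (F := F) hij
    refine ⟨F.l σ * a, Or.inr ?_⟩
    calc F.l σ * a * x * (F.l σ * a)⁻¹ = F.l σ * (a * x * a⁻¹) * (F.l σ)⁻¹ := by group
      _ = _ := by rw [h, hσ]

/-- a subgroup containing `w0`, normalised by `C(w0)`, without transvections, meets `V` in `⟨w0⟩` -/
theorem V_inf {N : Subgroup K} (hN : ∀ c : K, c * w0 F = w0 F * c → ∀ n ∈ N, c * n * c⁻¹ ∈ N) (hw : w0 F ∈ N)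
    (hr : ∀ i, F.r i ∉ N) {x : K} (hx : x ∈ N) (hxV : x ∈ F.V) : x = 1 ∨ x = w0 F := by
  rcases V_cases (F := F) hxV with h | ⟨i, h⟩ | ⟨i, j, hij, h⟩
  · exact Or.inl h
  · exfalso
    rw [h] at hx
    exact hr i hx
  -- a product of two `r`'s
  have hv : ∀ i j : Fin 5, F.r i * F.r j = F.v (Pi.single i 1 + Pi.single j 1) := fun i j => by
    rw [F.v_add, F.v_single, F.v_single]
  have hw0 : w0 F = F.v (Pi.single 1 1 + Pi.single 2 1) := hv 1 2
  have hm : ∀ m : Fin 5, F.v (Pi.single m 1 + 1) = F.r m := fun m => by rw [F.v_add, F.v_one, mul_one, F.v_single]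
  -- `i ∈ {1,2}`, `j ∉ {1,2}`
  have key : ∀ i j : Fin 5, (i = 1 ∨ i = 2) → (j ≠ 1 ∧ j ≠ 2) → F.r i * F.r j ∉ N := by
    intro i j hi hj h1
    obtain ⟨k, m, a, b, c, d, hne, e1, e2, e3, e4⟩ := dec_one j hj
    set σ := tw a b c d hne with hσ
    have hσ1 : (σ : Perm (Fin 5)) 1 = 1 := e1
    have hσ2 : (σ : Perm (Fin 5)) 2 = 2 := e2
    have hσj : (σ : Perm (Fin 5)) j = k := e3
    have hσi : (σ : Perm (Fin 5)) i = i := by rcases hi with rfl | rfl <;> assumption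
    have hcw : F.l σ * w0 F * (F.l σ)⁻¹ = w0 F := by
      calc F.l σ * (F.r 1 * F.r 2) * (F.l σ)⁻¹ = (F.l σ * F.r 1 * (F.l σ)⁻¹) * (F.l σ * F.r 2 * (F.l σ)⁻¹) := by
            group
        _ = _ := by rw [F.l_r, F.l_r, hσ1, hσ2]; rfl
    have h2 := hN (F.l σ) (mul_inv_eq_iff_eq_mul.mp hcw) _ h1
    have e5 : F.l σ * (F.r i * F.r j) * (F.l σ)⁻¹ = F.r i * F.r k := by
      calc F.l σ * (F.r i * F.r j) * (F.l σ)⁻¹ = (F.l σ * F.r i * (F.l σ)⁻¹) * (F.l σ * F.r j * (F.l σ)⁻¹) := by group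
        _ = _ := by rw [F.l_r, F.l_r, hσi, hσj]
    rw [e5] at h2
    have h3 := mul_mem (mul_mem h1 h2) hw
    have e6 : F.r i * F.r j * (F.r i * F.r k) * w0 F = F.r m := by
      rw [← hm m, ← e4, F.v_add, ← hv, ← hw0]
      congr 1
      calc F.r i * F.r j * (F.r i * F.r k) = F.r i * (F.r j * F.r i) * F.r k := by group
        _ = F.r i * F.r i * (F.r j * F.r k) := by rw [F.r_comm j i]; group
        _ = _ := by rw [F.r_sq, one_mul]
    rw [e6] at h3
    exact hr m h3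
  by_cases hi : i = 1 ∨ i = 2
  · by_cases hj : j = 1 ∨ j = 2
    · right
      rw [h]
      rcases hi with rfl | rfl <;> rcases hj with rfl | rfl
      · exact absurd rfl hij
      · rfl
      · rw [F.r_comm]; rfl
      · exact absurd rfl hij
    · exfalso
      rw [not_or] at hj
      rw [h] at hx
      exact key i j hi hj hx
  · by_cases hj : j = 1 ∨ j = 2
    · exfalso
      rw [not_or] at hi
      rw [h, F.r_comm] at hx
      exact key j i hj hi hx
    · exfalso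
      rw [not_or] at hi hj
      obtain ⟨m, e4⟩ := dec_disj i j hij hi hj
      rw [h] at hx
      have h3 := mul_mem hx hw
      have e6 : F.r i * F.r j * w0 F = F.r m := by rw [← hm m, ← e4, F.v_add, ← hv, ← hw0]
      rw [e6] at h3
      exact hr m h3

include FA in
/-- elements of the Sylow subgroup commuting with `V` lie in `U` -/
theorem mem_U {y : K} (hy : y ∈ F.U ⊔ F.Q) (hc : ∀ i, y * F.r i = F.r i * y) : y ∈ F.U := by
  obtain ⟨u, hu, j, he⟩ := cV' FA hc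
  have h2 : F.h ^ j ∈ F.U ⊔ F.Q := by
    have : F.h ^ j = u⁻¹ * y := by rw [he]; group
    rw [this]
    exact mul_mem (inv_mem ((le_sup_left : F.U ≤ F.U ⊔ F.Q) hu)) hy
  obtain ⟨k, hk⟩ := FA.syl.two ⟨_, h2⟩
  have hk' : (F.h ^ j) ^ 2 ^ k = 1 := congrArg Subtype.val hk
  have h3 : (F.h ^ j) ^ 3 = 1 := by rw [← pow_mul, mul_comm, pow_mul, F.h_pow, one_pow]
  have h4 : orderOf (F.h ^ j) = 1 := Nat.eq_one_of_dvd_coprimes
    (Nat.Coprime.pow_left k (by decide)) (orderOf_dvd_of_pow_eq_one hk') (orderOf_dvd_of_pow_eq_one h3)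
  rw [orderOf_eq_one_iff] at h4
  rw [he, h4, mul_one]
  exact hu

include FA in
/-- `C_T(w0)` is a Sylow 2-subgroup of `C(w0)` if `w0` is not 2-central. -/
theorem isSyl_C [Finite K] (hc : ¬ Cen (w0 F)) :
    IsSyl ((F.U ⊔ F.Q) ⊓ centralizer ({w0 F} : Set K)) (centralizer ({w0 F} : Set K)) := by
  classical
  have h2 : IsPGroup 2 ↥((F.U ⊔ F.Q) ⊓ centralizer ({w0 F} : Set K)) := FA.syl.two.to_le inf_le_left
  refine ⟨inf_le_right, h2, fun P hP hPC hle => ?_⟩
  have h1 : Nat.card ↥(F.U ⊔ F.Q) ≤ ({w0 F, w0 F * F.r 0} : Finset K).card *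
      Nat.card ↥((F.U ⊔ F.Q) ⊓ centralizer ({w0 F} : Set K)) := by
    refine card_le_of_conj (w := w0 F) (B := (F.U ⊔ F.Q) ⊓ centralizer ({w0 F} : Set K))
      (fun u hu huw => ⟨hu, mem_centralizer_singleton_iff.mpr huw⟩) _ ?_
    intro t ht
    simp only [Finset.mem_insert, Finset.mem_singleton]
    exact T_w0 (F := F) ht
  have h3 : ({w0 F, w0 F * F.r 0} : Finset K).card ≤ 2 := Finset.card_le_two
  refine (Subgroup.eq_of_le_of_card_ge hle ?_).symm
  by_contra hcon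
  push Not at hcon
  have hlt : 2 * Nat.card ↥((F.U ⊔ F.Q) ⊓ centralizer ({w0 F} : Set K)) ≤ Nat.card ↥P := by
    obtain ⟨k, hk⟩ := card_dvd_of_le hle
    have : 0 < Nat.card ↥((F.U ⊔ F.Q) ⊓ centralizer ({w0 F} : Set K)) := Nat.card_pos
    rcases k with _ | _ | k
    · omega
    · omega
    · rw [hk, mul_comm]
      exact Nat.mul_le_mul_left _ (by omega)
  have h4 : Nat.card ↥(F.U ⊔ F.Q) ≤ Nat.card ↥P :=
    h1.trans ((Nat.mul_le_mul_right _ h3).trans hlt)
  -- `P` is a Sylow subgroup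
  obtain ⟨P', hP', hPP'⟩ := exists_isSyl (N := (⊤ : Subgroup K)) hP le_top
  have h5 : Nat.card ↥P' ≤ Nat.card ↥(F.U ⊔ F.Q) := FA.syl.card_le hP'.two le_top
  have h6 : P = P' := Subgroup.eq_of_le_of_card_ge hPP' (h5.trans h4)
  apply hc
  obtain ⟨S, hS⟩ := hP'.exists_sylow
  refine ⟨S, fun s hs => mem_centralizer_singleton_iff.mp (hPC ?_)⟩
  rw [h6, ← hS]
  exact hs

include FA in
/-- **`Bad` is impossible** -/
theorem not_bad [Finite K] (w : K) (N : Subgroup K) : ¬ Bad w N := by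
  intro hB
  obtain ⟨g, hg | hg⟩ := exists_std FA hB.sq hB.ne
  · apply hB.non w hB.mem hB.sq hB.ne
    apply cen_of_conj g
    rw [hg]
    exact cen_r0 FA
  have hB' : Bad (w0 F) (N.map (MulAut.conj g).toMonoidHom) := by
    have := bad_map (MulAut.conj g) hB
    have e : (MulAut.conj g) w = w0 F := by rw [← hg, MulAut.conj_apply]
    rwa [e] at this
  set N' := N.map (MulAut.conj g).toMonoidHom
  have hNC : N' ≤ centralizer ({w0 F} : Set K) := fun n hn => mem_centralizer_singleton_iff.mpr (hB'.le n hn)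
  have hCN : centralizer ({w0 F} : Set K) ≤ normalizer (N' : Set K) := by
    intro c hc
    apply mem_normalizer_of_conj_le
    intro n hn
    exact hB'.norm c (mem_centralizer_singleton_iff.mp hc) n hn
  have hcen : ¬ Cen (w0 F) := hB'.non _ hB'.mem w0_sq w0_ne
  have hS := (isSyl_C FA hcen).inf_normal hNC hCN
  set B := (F.U ⊔ F.Q) ⊓ centralizer ({w0 F} : Set K) with hBdef
  have hr : ∀ i, F.r i ∉ N' := fun i hi => hB'.non _ hi (F.r_sq i) (F.r_ne' i) (cen_r FA i)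
  have hVN : ∀ x ∈ N', x ∈ F.V → x = 1 ∨ x = w0 F := fun x hx hxV => V_inf hB'.norm hB'.mem hr hx hxV
  have hle : B ⊓ N' ≤ zpowers (w0 F) := by
    intro t ht
    -- `t` commutes with all `r i`
    obtain ⟨σ, hσ⟩ := T_r (F := F) ht.1.1
    have hcm : ∀ i, t * F.r i * t⁻¹ = F.r i ∨ t * F.r i * t⁻¹ = w0 F * F.r i := by
      intro i
      have h1 : t * F.r i * t⁻¹ * (F.r i)⁻¹ ∈ N' := by
        have h2 := hB'.norm (F.r i) (F.comm_VV (F.r_V i) w0_V) _ (inv_mem ht.2)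
        have e : t * F.r i * t⁻¹ * (F.r i)⁻¹ = t * (F.r i * t⁻¹ * (F.r i)⁻¹) := by group
        rw [e]
        exact mul_mem ht.2 h2
      have h2 : t * F.r i * t⁻¹ * (F.r i)⁻¹ ∈ F.V := by
        rw [hσ]; exact mul_mem (F.r_V _) (inv_mem (F.r_V _))
      rcases hVN _ h1 h2 with h3 | h3
      · left; exact mul_inv_eq_one.mp h3
      · right; exact mul_inv_eq_iff_eq_mul.mp h3
    have hno : ∀ i : Fin 5, (i ≠ 1 ∧ i ≠ 2) → (σ : Perm (Fin 5)) i = i := by
      intro i hi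
      rcases hcm i with h1 | h1
      · rw [hσ] at h1; exact F.r_inj h1
      · exfalso
        rw [hσ] at h1
        have e1 : F.v (Pi.single ((σ : Perm (Fin 5)) i) 1) = F.v (Pi.single 1 1 + Pi.single 2 1 + Pi.single i 1) := by
          rw [F.v_add, F.v_add, F.v_single, F.v_single, F.v_single, F.v_single]
          exact h1
        rw [F.v_eq_iff] at e1
        have dec : ∀ i k : Fin 5, (i ≠ 1 ∧ i ≠ 2) → ¬ ((Pi.single k 1 + (Pi.single 1 1 + Pi.single 2 1 + Pi.single i 1) :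
            Fin 5 → ZMod 2) = 0 ∨ (Pi.single k 1 + (Pi.single 1 1 + Pi.single 2 1 + Pi.single i 1) :
            Fin 5 → ZMod 2) = 1) := by
          set_option maxRecDepth 100000 in decide +kernel
        exact dec _ _ hi e1
    have hσ1 : (σ : Perm (Fin 5)) = 1 := dec_even _ (hno 0 (by decide)) (hno 3 (by decide)) (hno 4 (by decide))
      (Equiv.Perm.mem_alternatingGroup.mp σ.2)
    have hcr : ∀ i, t * F.r i = F.r i * t := by
      intro i
      have := hσ i
      rw [hσ1] at this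
      exact mul_inv_eq_iff_eq_mul.mp this
    have htU := mem_U FA ht.1.1 hcr
    have htV : t ∈ F.V := by
      rcases F.U_sq t htU with h1 | ⟨i, h1⟩
      · exact F.U_one t htU h1
      · exfalso
        apply hr i
        rw [← h1]
        exact mul_mem ht.2 ht.2
    rcases hVN t ht.2 htV with h1 | h1
    · rw [h1]; exact one_mem _
    · rw [h1]; exact mem_zpowers _
  have h2 : Nat.card ↥(zpowers (w0 F)) ≤ 2 := by
    rw [Nat.card_zpowers]
    exact Nat.le_of_dvd (by norm_num) (orderOf_dvd_of_pow_eq_one (by rw [pow_two, w0_sq]))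
  have h3 : Nat.card ↥(B ⊓ N') ≤ 2 :=
    (Nat.card_le_card_of_injective _ (Subgroup.inclusion_injective hle)).trans h2
  obtain ⟨k, hk⟩ := hS.odd_relIndex
  have h4 := card_mul_relIndex (H := B ⊓ N') (K := N') inf_le_right
  have h5 := hB'.four
  rw [← h4, hk] at h5
  have h6 : 4 ∣ Nat.card ↥(B ⊓ N') := by
    have hc : Nat.Coprime 4 (2 * k + 1) := by
      have : Nat.Coprime (2 ^ 2) (2 * k + 1) := Nat.Coprime.pow_left 2 (by
        rw [Nat.coprime_two_left]
        exact ⟨k, rfl⟩)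
      simpa using this
    exact hc.dvd_of_dvd_mul_right h5
  have h7 : 0 < Nat.card ↥(B ⊓ N') := Nat.card_pos
  have := Nat.le_of_dvd h7 h6
  omega

end Cfsg.Agent.OddHalf.D4.UFiveTwo
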